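import Groth.Agent.EtaleEulerLib.Nilp
import Groth.Agent.EtaleChiLib.Main
import Groth.Agent.StratLib.Local
import Groth.Agent.FinCovLib.Cover
import Groth.Agent.BoxSurjLib.Envelope
import Groth.Agent.HopfIneqLib.Sections
import Groth.Agent.SeesawLib.Pulled
import Groth.Agent.PicPnLib.Rel

/-! Euler characteristics are multiplicative in finite étale covers. -/

set_option autoImplicit false
set_option linter.style.haveILetI false
set_option maxHeartbeats 1000000
universe u

open CategoryTheory CategoryTheory.Limits AlgebraicGeometry TopologicalSpace Opposite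
open DevissLib
open HilbPolyLib (congrLeft congrRight swapIso unitLeft assocIso)
open KFlatLib (pb)

noncomputable section

namespace EtaleEulerLib

/-- The direct image of the structure module of a finite flat morphism is locally free. -/
theorem isFinLocFree_push {X Y : Scheme.{u}} [IsLocallyNoetherian Y] (f : X ⟶ Y) [IsFinite f] [Flat f] :
    FlatMod.IsFinLocFree ((Coh.push f).obj (Coh.structureModule X)) := by
  haveI : IsLocallyNoetherian X := LocallyOfFiniteType.isLocallyNoetherian f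
  have hc := QCohLib.isCoh_push_finite f _ (DevissLib.isCoh_structureModule X)
  haveI := hc.1
  refine StratLib.isFinLocFree_of_flat_sections _ hc.2 fun y => ?_
  obtain ⟨V, hV, hy, -⟩ := exists_isAffineOpen_mem_and_subset (show y ∈ (⊤ : Y.Opens) from trivial)
  refine ⟨V, hV, hy, ?_⟩
  letI : Algebra Γ(Y, V) Γ(X, f ⁻¹ᵁ V) := (f.app V).hom.toAlgebra
  have hflat : (f.app V).hom.Flat := by
    have := Flat.flat_appLE f hV (hV.preimage f) le_rfl
    rwa [← Scheme.Hom.app_eq_appLE] at this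
  haveI : Module.Flat Γ(Y, V) Γ(X, f ⁻¹ᵁ V) := hflat
  exact Module.Flat.of_linearEquiv
    ({ AddEquiv.refl Γ(X, f ⁻¹ᵁ V) with map_smul' := fun r x => rfl } :
      Γ((Coh.push f).obj (Coh.structureModule X), V) ≃ₗ[Γ(Y, V)] Γ(X, f ⁻¹ᵁ V))

theorem rank_of_finrank {X : Scheme.{u}} {M : X.Modules} {n : ℕ} (hM : FlatMod.IsFinLocFree M)
    (h : ∀ x : X, Module.finrank (X.presheaf.stalk x) (M.presheaf.stalk x) = n) :
    FlatMod.IsFinLocFreeOfRank n M := fun x => by
  obtain ⟨U, m, hU, ⟨e⟩⟩ := hM x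
  obtain ⟨e'⟩ := CurveVBLib.nonempty_stalk_pi_on e hU
  have : m = n := by rw [← h x]; exact ((e'.finrank_eq.trans (Module.finrank_fin_fun _))).symm
  exact this ▸ ⟨U, hU, ⟨e⟩⟩

theorem finrank_stalk_biprod {X : Scheme.{u}} {M A B : X.Modules} (hA : FlatMod.IsFinLocFree A)
    (hB : FlatMod.IsFinLocFree B) (e : M ≅ A ⊞ B) (x : X) :
    Module.finrank (X.presheaf.stalk x) (M.presheaf.stalk x) =
      Module.finrank (X.presheaf.stalk x) (A.presheaf.stalk x) +
        Module.finrank (X.presheaf.stalk x) (B.presheaf.stalk x) := by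
  obtain ⟨U, a, hU, ⟨ea⟩⟩ := hA x
  obtain ⟨V, b, hV, ⟨eb⟩⟩ := hB x
  obtain ⟨fa⟩ := CurveVBLib.nonempty_stalk_pi_on ea hU
  obtain ⟨fb⟩ := CurveVBLib.nonempty_stalk_pi_on eb hV
  haveI : PreservesBinaryBiproduct A B (St x) := preservesBinaryBiproduct_of_preservesBinaryProduct _
  let g := ((St x).mapIso e ≪≫ (St x).mapBiprod A B ≪≫ ModuleCat.biprodIsoProd _ _).toLinearEquiv
  refine g.finrank_eq.trans ?_
  refine (LinearEquiv.prodCongr fa fb).finrank_eq.trans ?_
  rw [Module.finrank_prod]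
  exact congrArg₂ (· + ·) fa.finrank_eq.symm fb.finrank_eq.symm

variable {k : Type u} [Field k]

/-- `χ(f^* F)` as an Euler characteristic on the base. -/
theorem euler_pb {X Y : Scheme.{u}} [X.Over (Spec (CommRingCat.of k))] [Y.Over (Spec (CommRingCat.of k))]
    [IsProper (Y ↘ Spec (CommRingCat.of k))] (f : X ⟶ Y) [IsFinite f]
    (hf : f ≫ (Y ↘ Spec (CommRingCat.of k)) = X ↘ Spec (CommRingCat.of k)) {r : ℕ} {F : Y.Modules}
    (hF : FlatMod.IsFinLocFreeOfRank r F) :
    Curv2.euler k X (pb f F) =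
      Curv2.euler k Y (CohB1.tensorMod F ((Coh.push f).obj (Coh.structureModule X))) := by
  haveI := CurvLib.isNoetherian k (X := Y)
  haveI : IsLocallyNoetherian X := LocallyOfFiniteType.isLocallyNoetherian f
  haveI := (CurvLib.isCoh_of_locFree (Groth.Agent.S7640.isFinLocFreeOfRank_pb f hF)).1
  rw [(PushLinLib.euler_push k f hf (pb f F)).2]
  let p := @asIso _ _ _ _ (ProjFormLib.projApp f F (Coh.structureModule X))
    (ProjFormLib.isIso_projApp f (CurveVBLib.isFinLocFree_of_rank hF) _)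
  exact (CurvLib.euler_congr (p ≪≫ (Coh.push f).mapIso (swapIso _ _ ≪≫ unitLeft _))).symm

/-- Euler characteristics on a scheme split into two clopen pieces. -/
theorem euler_split {X : Scheme.{u}} [X.Over (Spec (CommRingCat.of k))] [IsProper (X ↘ Spec (CommRingCat.of k))]
    (U V : X.Opens) [IsClosedImmersion U.ι] [IsClosedImmersion V.ι]
    (hUV : Disjoint (U : Set X) V) (hcov : ∀ x : X, x ∈ U ∨ x ∈ V) {r : ℕ} {G : X.Modules}
    (hG : FlatMod.IsFinLocFreeOfRank r G) :
    letI : U.toScheme.Over (Spec (CommRingCat.of k)) := ⟨U.ι ≫ X ↘ Spec (CommRingCat.of k)⟩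
    letI : V.toScheme.Over (Spec (CommRingCat.of k)) := ⟨V.ι ≫ X ↘ Spec (CommRingCat.of k)⟩
    Curv2.euler k X G = Curv2.euler k U.toScheme (pb U.ι G) + Curv2.euler k V.toScheme (pb V.ι G) := by
  letI : U.toScheme.Over (Spec (CommRingCat.of k)) := ⟨U.ι ≫ X ↘ Spec (CommRingCat.of k)⟩
  letI : V.toScheme.Over (Spec (CommRingCat.of k)) := ⟨V.ι ≫ X ↘ Spec (CommRingCat.of k)⟩
  haveI := CurvLib.isNoetherian k (X := X)
  haveI : IsLocallyNoetherian U.toScheme := LocallyOfFiniteType.isLocallyNoetherian U.ι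
  haveI : IsLocallyNoetherian V.toScheme := LocallyOfFiniteType.isLocallyNoetherian V.ι
  obtain ⟨e⟩ := EtaleChiLib.nonempty_structure_iso U V hUV hcov
  let A := (Coh.push U.ι).obj (Coh.structureModule U.toScheme)
  let B := (Coh.push V.ι).obj (Coh.structureModule V.toScheme)
  haveI : PreservesBinaryBiproduct A B (CurvLib.tensorLeft' G) :=
    preservesBinaryBiproduct_of_preservesBinaryProduct _
  let e' : G ≅ CohB1.tensorMod G A ⊞ CohB1.tensorMod G B :=
    (unitLeft G).symm ≪≫ swapIso _ _ ≪≫ (CurvLib.tensorLeft' G).mapIso e ≪≫ (CurvLib.tensorLeft' G).mapBiprod A B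
  have hA := isCoh_tens (k := k) hG (QCohLib.isCoh_push_finite U.ι _ (DevissLib.isCoh_structureModule _))
  have hB := isCoh_tens (k := k) hG (QCohLib.isCoh_push_finite V.ι _ (DevissLib.isCoh_structureModule _))
  rw [CurvLib.euler_congr e', EtaleChiLib.euler_biprod hA hB (QCohLib.isCoh_of_iso e' (CurvLib.isCoh_of_locFree hG)),
    euler_pb U.ι rfl hG, euler_pb V.ι rfl hG]

theorem iterate_formula {Y : Scheme.{u}} (E : Y.Modules) (d : ℕ) (Φ : Y.Modules → ℤ) (P : Y.Modules → Prop)
    (hP : ∀ F, P F → P (CohB1.tensorMod E F)) (h : ∀ F, P F → diff E d Φ (CohB1.tensorMod E F) = 0) :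
    ∀ (m : ℕ) (F : Y.Modules), P F → (diff E d)^[m + 1] Φ F = (-(d : ℤ)) ^ m * diff E d Φ F
  | 0, F, _ => by simp
  | m + 1, F, hF => by
    rw [Function.iterate_succ_apply']
    show (diff E d)^[m + 1] Φ (CohB1.tensorMod E F) - d * (diff E d)^[m + 1] Φ F = _
    rw [iterate_formula E d Φ P hP h m _ (hP F hF), iterate_formula E d Φ P hP h m F hF, h F hF, pow_succ]
    ring

/-- `χ(f^* F) = d χ(F)` for finite étale `f` of degree `d`. -/
theorem euler_pb_etale : ∀ (d : ℕ) (Y : Scheme.{u}) [Y.Over (Spec (CommRingCat.of k))]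
    [IsProper (Y ↘ Spec (CommRingCat.of k))] (Z : Scheme.{u}) [Z.Over (Spec (CommRingCat.of k))] (f : Z ⟶ Y)
    [IsFinite f] [Etale f], f ≫ (Y ↘ Spec (CommRingCat.of k)) = Z ↘ Spec (CommRingCat.of k) →
    FlatMod.IsFinLocFreeOfRank d ((Coh.push f).obj (Coh.structureModule Z)) →
    ∀ (r : ℕ) (F : Y.Modules), FlatMod.IsFinLocFreeOfRank r F →
      Curv2.euler k Z (pb f F) = d * Curv2.euler k Y F := by
  intro d
  induction d using Nat.strong_induction_on with
  | _ d ih =>
  intro Y _ _ Z _ f _ _ hf hd r F hF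
  let E := (Coh.push f).obj (Coh.structureModule Z)
  haveI := CurvLib.isNoetherian k (X := Y)
  haveI : IsLocallyNoetherian Z := LocallyOfFiniteType.isLocallyNoetherian f
  haveI : IsProper (f ≫ (Y ↘ Spec (CommRingCat.of k))) := inferInstance
  haveI : IsProper (Z ↘ Spec (CommRingCat.of k)) := hf ▸ this
  have key : ∀ G, (∃ s, FlatMod.IsFinLocFreeOfRank s G) →
      Curv2.euler k Z (pb f G) = Curv2.euler k Y (CohB1.tensorMod E G) := fun G ⟨s, hG⟩ =>
    (euler_pb f hf hG).trans (CurvLib.euler_congr (swapIso _ _))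
  rcases Nat.eq_zero_or_pos d with hd0 | hdpos
  · subst hd0
    have hz : IsZero (CohB1.tensorMod E F) := KFlatLib.isZero_of_stalks fun y => by
      obtain ⟨e⟩ := CurvLib.nonempty_stalk_pi_of_locFree (HopfIneqLib.locFree_tensor hd hF) y
      haveI : IsEmpty (Fin (0 * r)) := by rw [zero_mul]; exact Fin.isEmpty
      exact e.toEquiv.subsingleton
    rw [key F ⟨r, hF⟩, Nat.cast_zero, zero_mul]
    have hzz : IsZero (CohB1.tensorMod E F ⊞ CohB1.tensorMod E F) := biprod_isZero_iff _ _ |>.mpr ⟨hz, hz⟩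
    have hc := DevissLib.isCoh_of_isZero hz
    have h2 := EtaleChiLib.euler_biprod (k := k) hc hc (DevissLib.isCoh_of_isZero hzz)
    rw [← CurvLib.euler_congr (hz.iso hzz)] at h2
    linarith
  -- the fibre square
  let p := pullback.fst f f
  let q := pullback.snd f f
  letI : (pullback f f).Over (Spec (CommRingCat.of k)) := ⟨q ≫ Z ↘ Spec (CommRingCat.of k)⟩
  haveI : IsProper ((pullback f f) ↘ Spec (CommRingCat.of k)) :=
    show IsProper (q ≫ Z ↘ Spec (CommRingCat.of k)) from inferInstance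
  haveI : IsLocallyNoetherian (pullback f f) := LocallyOfFiniteType.isLocallyNoetherian q
  let Δ : Z ⟶ pullback f f := pullback.diagonal f
  have hΔ : Δ ≫ q = 𝟙 Z := pullback.diagonal_snd f
  haveI : IsClosedImmersion Δ := (inferInstance : IsClosedImmersion (pullback.diagonal f))
  haveI : IsOpenImmersion Δ := (inferInstance : IsOpenImmersion (pullback.diagonal f))
  let U := Δ.opensRange
  let V : (pullback f f).Opens := ⟨(U : Set ↥(pullback f f))ᶜ, Δ.isClosedEmbedding.isClosed_range.isOpen_compl⟩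
  haveI := EtaleChiLib.isClosedImmersion_ι U Δ.isClosedEmbedding.isClosed_range
  haveI := EtaleChiLib.isClosedImmersion_ι V U.2.isClosed_compl
  letI : U.toScheme.Over (Spec (CommRingCat.of k)) := ⟨U.ι ≫ (pullback f f) ↘ Spec (CommRingCat.of k)⟩
  letI : V.toScheme.Over (Spec (CommRingCat.of k)) := ⟨V.ι ≫ (pullback f f) ↘ Spec (CommRingCat.of k)⟩
  have hUV : Disjoint (U : Set ↥(pullback f f)) V := disjoint_compl_right
  have hcov : ∀ x, x ∈ U ∨ x ∈ V := fun x => Classical.em _
  haveI hUq : IsIso (U.ι ≫ q) := by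
    have : U.ι ≫ q = Δ.isoOpensRange.inv := by
      rw [← cancel_epi Δ.isoOpensRange.hom, Iso.hom_inv_id, Scheme.Hom.isoOpensRange_hom_ι_assoc, hΔ]
    rw [this]; infer_instance
  haveI : Coh.IsQCoh (Coh.structureModule Z) := QCohLib.isQCoh_unit
  obtain ⟨φ⟩ := Groth.Agent.S0017.result f f p q (IsPullback.of_hasPullback f f) (Coh.structureModule Z)
  let Q := (Coh.push q).obj (Coh.structureModule (pullback f f))
  let ψ : pb f E ≅ Q := φ ≪≫ (Coh.push q).mapIso (KFlatLib.pullUnitIso p)
  have hQ : FlatMod.IsFinLocFreeOfRank d Q :=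
    SeesawLib.isFinLocFreeOfRank_of_iso (Groth.Agent.S7640.isFinLocFreeOfRank_pb f hd) ψ.symm
  let g := V.ι ≫ q
  let B := (Coh.push g).obj (Coh.structureModule V.toScheme)
  haveI : IsLocallyNoetherian U.toScheme := LocallyOfFiniteType.isLocallyNoetherian U.ι
  haveI : IsLocallyNoetherian V.toScheme := LocallyOfFiniteType.isLocallyNoetherian V.ι
  have hA1 : FlatMod.IsFinLocFreeOfRank 1 ((Coh.push (U.ι ≫ q)).obj (Coh.structureModule U.toScheme)) := by
    haveI := EtaleChiLib.unitToPush_isIso (U.ι ≫ q)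
    exact SeesawLib.isFinLocFreeOfRank_of_iso (CurvLib.locFree_of_isInvertible CurvLib.isInvertible_structureModule)
      (asIso (ClSub.unitToPush (U.ι ≫ q))).symm
  have hB : FlatMod.IsFinLocFreeOfRank (d - 1) B := by
    obtain ⟨e⟩ := EtaleChiLib.nonempty_structure_iso U V hUV hcov
    haveI : (Coh.push q).Additive := inferInstanceAs (Scheme.Modules.pushforward q).Additive
    haveI : PreservesBinaryBiproduct ((Coh.push U.ι).obj (Coh.structureModule U.toScheme))
        ((Coh.push V.ι).obj (Coh.structureModule V.toScheme)) (Coh.push q) :=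
      preservesBinaryBiproduct_of_preservesBiproduct _ _ _
    let e' : Q ≅ (Coh.push (U.ι ≫ q)).obj (Coh.structureModule U.toScheme) ⊞ B :=
      (Coh.push q).mapIso e ≪≫ (Coh.push q).mapBiprod _ _ ≪≫
        biprod.mapIso ((Scheme.Modules.pushforwardComp U.ι q).app (Coh.structureModule U.toScheme))
          ((Scheme.Modules.pushforwardComp V.ι q).app (Coh.structureModule V.toScheme))
    refine rank_of_finrank (isFinLocFree_push g) fun z => ?_
    have h := finrank_stalk_biprod (CurveVBLib.isFinLocFree_of_rank hA1) (isFinLocFree_push g) e' z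
    obtain ⟨eQ⟩ := CurvLib.nonempty_stalk_pi_of_locFree hQ z
    obtain ⟨eA⟩ := CurvLib.nonempty_stalk_pi_of_locFree hA1 z
    show Module.finrank _ (B.presheaf.stalk z) = d - 1
    have h' : 1 + Module.finrank (Z.presheaf.stalk z) (B.presheaf.stalk z) = d :=
      (congrArg (· + _) (eA.finrank_eq.trans (Module.finrank_fin_fun _)).symm).trans
        (h.symm.trans (eQ.finrank_eq.trans (Module.finrank_fin_fun _)))
    omega
  -- one step
  have step : ∀ G, (∃ s, FlatMod.IsFinLocFreeOfRank s G) →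
      diff E d (Curv2.euler k Y) (CohB1.tensorMod E G) = 0 := by
    rintro G ⟨s, hG⟩
    have hG' := Groth.Agent.S7640.isFinLocFreeOfRank_pb f hG
    have hGq := Groth.Agent.S7640.isFinLocFreeOfRank_pb q hG'
    have e1 : Curv2.euler k U.toScheme (pb U.ι (pb q (pb f G))) = Curv2.euler k Z (pb f G) := by
      refine (CurvLib.euler_congr (k := k) ((Scheme.Modules.pullbackComp U.ι q).app (pb f G))).trans ?_
      refine (euler_pb (U.ι ≫ q) (Category.assoc _ _ _) hG').trans ?_
      haveI := EtaleChiLib.unitToPush_isIso (U.ι ≫ q)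
      exact CurvLib.euler_congr (congrRight _ (asIso (ClSub.unitToPush (U.ι ≫ q))).symm ≪≫ swapIso _ _ ≪≫ unitLeft _)
    have e2 : Curv2.euler k V.toScheme (pb V.ι (pb q (pb f G))) = ((d - 1 : ℕ) : ℤ) * Curv2.euler k Z (pb f G) := by
      refine (CurvLib.euler_congr (k := k) ((Scheme.Modules.pullbackComp V.ι q).app (pb f G))).trans ?_
      exact ih (d - 1) (by omega) Z V.toScheme g (Category.assoc _ _ _) hB s _ hG'
    have e3 : Curv2.euler k Z (pb f (CohB1.tensorMod G E)) = Curv2.euler k (pullback f f) (pb q (pb f G)) :=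
      (CurvLib.euler_congr (PicPnLib.pullTens f G E ≪≫ congrRight _ ψ)).trans (euler_pb q rfl hG').symm
    have e4 := euler_split (k := k) U V hUV hcov hGq
    have hd1 : ((d - 1 : ℕ) : ℤ) = d - 1 := by omega
    rw [e1, e2, hd1, ← e3] at e4
    show Curv2.euler k Y (CohB1.tensorMod E (CohB1.tensorMod E G)) - d * Curv2.euler k Y (CohB1.tensorMod E G) = 0
    rw [← key (CohB1.tensorMod E G) ⟨_, HopfIneqLib.locFree_tensor hd hG⟩, ← key G ⟨s, hG⟩,
      CurvLib.euler_congr ((Scheme.Modules.pullback f).mapIso (swapIso E G)), e4]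
    ring
  obtain ⟨N, hN⟩ := BoxSurjLib.exists_krullDim_le (Y ↘ Spec (CommRingCat.of k))
  have hadd : IsAdditive (Curv2.euler k Y) :=
    ⟨fun M M' e => CurvLib.euler_congr e, fun S hS a b c => CurvLib.euler_add_of_isCoh hS a b c⟩
  have h0 : VanishesBelow (Curv2.euler k Y) 0 := by
    intro M hM hdim
    have hs : CohB1.support M = ∅ := by
      by_contra hne
      haveI : Nonempty (CohB1.support M) := (Set.nonempty_iff_ne_empty.2 hne).to_subtype
      haveI : Nonempty (IrreducibleCloseds (CohB1.support M)) :=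
        ⟨⟨closure {Classical.arbitrary _}, isIrreducible_singleton.closure, isClosed_closure⟩⟩
      have : (0 : WithBot ℕ∞) ≤ topologicalKrullDim (CohB1.support M) := Order.krullDim_nonneg
      exact absurd hdim (not_lt.2 (le_of_eq_of_le Nat.cast_zero this))
    have hz := DevissLib.isZero_of_support_empty hs
    have hzz : IsZero (M ⊞ M) := biprod_isZero_iff _ _ |>.mpr ⟨hz, hz⟩
    have h2 := EtaleChiLib.euler_biprod (k := k) hM hM (DevissLib.isCoh_of_isZero hzz)
    rw [← CurvLib.euler_congr (hz.iso hzz)] at h2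
    linarith
  have hv := (vanishes_iterate (k := k) hd hadd h0 (N + 1)).2 F (CurvLib.isCoh_of_locFree hF)
    (lt_of_le_of_lt (Topology.IsInducing.subtypeVal.topologicalKrullDim_le.trans hN)
      (WithBot.coe_lt_coe.2 (WithTop.coe_lt_coe.2 (Nat.lt_succ_self N))))
  rw [iterate_formula E d (Curv2.euler k Y) (fun G => ∃ s, FlatMod.IsFinLocFreeOfRank s G)
    (fun G ⟨s, hG⟩ => ⟨_, HopfIneqLib.locFree_tensor hd hG⟩) step N F ⟨r, hF⟩] at hv
  have hD := (mul_eq_zero.1 hv).resolve_left (pow_ne_zero _ (by omega))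
  rw [key F ⟨r, hF⟩]
  exact sub_eq_zero.1 hD

end EtaleEulerLib
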