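import Groth.Agent.IntMultLib.Components
import Groth.Agent.CohGenLib.Twist
import Groth.Agent.CurvLib.EulerTensor

/-! Tensoring with a locally free module of rank `n` is multiplication by `n` up to lower dimension. -/

set_option autoImplicit false
set_option linter.style.haveILetI false
set_option maxHeartbeats 1000000
universe u

open CategoryTheory CategoryTheory.Limits AlgebraicGeometry TopologicalSpace Opposite
open DevissLib HilbPolyLib IntMultLib
open scoped TensorProduct

noncomputable section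

namespace EtaleEulerLib

variable {k : Type u} [Field k] {X : Scheme.{u}} [X.Over (Spec (CommRingCat.of k))]
  [IsProper (X ↘ Spec (CommRingCat.of k))] {n : ℕ} {E : X.Modules} (hE : FlatMod.IsFinLocFreeOfRank n E)

/-- An iso invariant additive function. -/
structure IsAdditive (Φ : X.Modules → ℤ) : Prop where
  iso : ∀ M N : X.Modules, (M ≅ N) → Φ M = Φ N
  add : ∀ S : ShortComplex X.Modules, S.ShortExact → Coh.IsCoh S.X₁ → Coh.IsCoh S.X₂ → Coh.IsCoh S.X₃ →
    Φ S.X₂ = Φ S.X₁ + Φ S.X₃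

/-- Vanishing on supports of dimension `< d`. -/
def VanishesBelow (Φ : X.Modules → ℤ) (d : ℕ) : Prop :=
  ∀ M : X.Modules, Coh.IsCoh M → topologicalKrullDim (CohB1.support M) < (d : ℕ) → Φ M = 0

/-- The operator `Φ ↦ Φ (E ⊗ ·) - n Φ`. -/
def diff (E : X.Modules) (n : ℕ) (Φ : X.Modules → ℤ) (M : X.Modules) : ℤ :=
  Φ (CohB1.tensorMod E M) - n * Φ M

include k hE in
theorem isCoh_tens {M : X.Modules} (hM : Coh.IsCoh M) : Coh.IsCoh (CohB1.tensorMod E M) := by
  haveI := CurvLib.isNoetherian k (X := X)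
  exact QCohLib.isCoh_of_iso (swapIso _ _) (isCoh_tensor_locFree hE hM)

include hE in
theorem len_tensor (M : X.Modules) (ξ : X) : len (CohB1.tensorMod E M) ξ = n * len M ξ := by
  obtain ⟨e⟩ := CurvLib.nonempty_stalk_pi_of_locFree hE ξ
  let f : ((St ξ).obj (CohB1.tensorMod E M)) ≃ₗ[X.presheaf.stalk ξ] (Fin n → (St ξ).obj M) :=
    (KFlatLib.stalkTensorIso E M ξ).symm.toLinearEquiv ≪≫ₗ TensorProduct.congr e (LinearEquiv.refl _ _) ≪≫ₗ
      TensorProduct.comm _ _ _ ≪≫ₗ TensorProduct.piScalarRight _ _ _ _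
  refine f.length_eq.trans ?_
  rw [Module.length_pi]
  simp [len]
  rfl

include k hE in
theorem isAdditive_diff {Φ : X.Modules → ℤ} (hΦ : IsAdditive Φ) : IsAdditive (diff E n Φ) where
  iso M N e := by rw [diff, diff, hΦ.iso _ _ (congrRight E e), hΦ.iso _ _ e]
  add S hS h₁ h₂ h₃ := by
    have h := hΦ.add _ (CurvLib.shortExact_tensor_locFree hE hS) (isCoh_tens (k := k) hE h₁)
      (isCoh_tens (k := k) hE h₂) (isCoh_tens (k := k) hE h₃)
    change Φ (CohB1.tensorMod E S.X₂) = Φ (CohB1.tensorMod E S.X₁) + Φ (CohB1.tensorMod E S.X₃) at h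
    simp only [diff]
    rw [h, hΦ.add S hS h₁ h₂ h₃]
    ring

include k hE in
theorem vanishesBelow_diff {Φ : X.Modules → ℤ} (hΦ : IsAdditive Φ) {d : ℕ} (hv : VanishesBelow Φ d) :
    VanishesBelow (diff E n Φ) (d + 1) := by
  intro M hM hdim
  haveI := CurvLib.isNoetherian k (X := X)
  have hd : topologicalKrullDim (CohB1.support M) ≤ (d : ℕ) := by
    revert hdim
    generalize topologicalKrullDim (CohB1.support M) = t
    intro h
    rcases t with _ | _ | m
    · exact bot_le
    · exact absurd h (not_lt.2 (WithBot.coe_le_coe.2 le_top))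
    · exact WithBot.coe_le_coe.2 (WithTop.coe_le_coe.2 (Nat.lt_succ_iff.1 (WithTop.coe_lt_coe.1 (WithBot.coe_lt_coe.1 h))))
  rcases (CohB1.support M).eq_empty_or_nonempty with h0 | hne
  · have hz : IsZero M := DevissLib.isZero_of_support_empty h0
    have hlow : ∀ N : X.Modules, IsZero N → Φ N = 0 := fun N hN => hv N (DevissLib.isCoh_of_isZero hN) (by
      have hs : CohB1.support N = ∅ := DevissLib.support_of_isZero hN
      haveI : IsEmpty (IrreducibleCloseds (∅ : Set X)) := ⟨fun Z => (Z.isIrreducible.nonempty.some).2.elim⟩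
      rw [hs, show topologicalKrullDim (∅ : Set X) = ⊥ from Order.krullDim_eq_bot]
      exact WithBot.bot_lt_coe _)
    rw [diff, hlow _ hz, show Φ (CohB1.tensorMod E M) = 0 from hlow _ ((CurvLib.tensorLeft' E).map_isZero hz)]
    simp
  have hcl := QCohLib.isClosed_support M hM.2
  have hEM := isCoh_tens (k := k) hE hM
  obtain ⟨T, hT, h1⟩ := additive_eq_sum (k := k) Φ hΦ.iso hΦ.add hv hcl hne hd M hM subset_rfl
  obtain ⟨T', hT', h2⟩ := additive_eq_sum (k := k) Φ hΦ.iso hΦ.add hv hcl hne hd _ hEM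
    (CohGenLib.support_tensor_subset E M)
  have hTT : T' = T := Finset.ext fun ξ => (hT' ξ).trans (hT ξ).symm
  rw [diff, h1, h2, hTT, Finset.mul_sum, ← Finset.sum_sub_distrib]
  refine Finset.sum_eq_zero fun ξ _ => ?_
  rw [len_tensor hE, ENat.toNat_mul, ENat.toNat_coe, nsmul_eq_mul, nsmul_eq_mul, Nat.cast_mul, mul_assoc, sub_self]

include k hE in
theorem vanishes_iterate {Φ : X.Modules → ℤ} (hΦ : IsAdditive Φ) (h0 : VanishesBelow Φ 0) :
    ∀ m : ℕ, IsAdditive ((diff E n)^[m] Φ) ∧ VanishesBelow ((diff E n)^[m] Φ) m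
  | 0 => ⟨hΦ, h0⟩
  | m + 1 => by
    rw [Function.iterate_succ_apply']
    exact ⟨isAdditive_diff (k := k) hE (vanishes_iterate hΦ h0 m).1,
      vanishesBelow_diff (k := k) hE (vanishes_iterate hΦ h0 m).1 (vanishes_iterate hΦ h0 m).2⟩

end EtaleEulerLib
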